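import Cfsg.Agent.H938.Sax.OrthGap
import Cfsg.Agent.H997.PF.Rows
import Cfsg.Agent.S0293

/-!
# Elements of order `217 = 7 * 31` in `POmega^+_16(2)` (helper79, task 3008, for `S3522`)

`lin_217` : an isometry of order `217` of a nondegenerate space over the field of two elements, of dimension `< 20`,
needs dimension `≥ 16`, and has no fixed vectors in dimension `16`.

`ld_o16`, `no217`, `sp14_no217`.
-/

set_option autoImplicit false
set_option linter.unusedSectionVars false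

namespace Cfsg.Agent.H79.O16

open Module QuadraticMap Cfsg Cfsg.Geo Cfsg.Agent.LieClassical.OrthCore Cfsg.Agent.H955 Cfsg.Agent.H954.TSing
  Cfsg.Agent.H884.El Cfsg.Agent.LieClassical.OmegaReindex Cfsg.Agent.H938.Sax Cfsg.Agent.H377
open Cfsg.Agent.H951 (fx cm Inv)
open scoped MatrixGroups Matrix

universe u v

section lin

variable {F : Type u} [Field F] [Fintype F] {V : Type v} [AddCommGroup V] [Module F V] [FiniteDimensional F V]
  {Q : QuadraticForm F V} {g : Module.End F V}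

omit [Field F] in
theorem pp_five (hF : Fintype.card F = 2) : PP (Nat.card F) 5 31 := ⟨by norm_num, by
  rw [Nat.card_eq_fintype_card, hF]
  refine (orderOf_eq_iff (by norm_num)).2 ⟨by decide, fun m hm hm0 => ?_⟩
  interval_cases m <;> decide⟩

omit [Field F] in
theorem pp_three (hF : Fintype.card F = 2) : PP (Nat.card F) 3 7 := ⟨by norm_num, by
  rw [Nat.card_eq_fintype_card, hF]
  refine (orderOf_eq_iff (by norm_num)).2 ⟨by decide, fun m hm hm0 => ?_⟩
  interval_cases m <;> decide⟩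

theorem lin_217 (hF : Fintype.card F = 2) (hQ : Nondeg Q) (hg : ∀ v, Q (g v) = Q v)
    (ho : orderOf g = 217) (hd : finrank F V < 20) :
    16 ≤ finrank F V ∧ (finrank F V = 16 → ∀ v, g v = v → v = 0) := by
  have hg217 : g ^ 217 = 1 := by rw [← ho]; exact pow_orderOf_eq_one g
  have hne : ∀ n : ℕ, ¬ 217 ∣ n → g ^ n ≠ 1 := fun n hn h => hn (by rw [← ho]; exact orderOf_dvd_of_pow_eq_one h)
  have hx : Iso Q (g ^ 7) 31 := Iso.mk' (pp_five hF) (by omega) (by rw [← pow_mul, hg217]) (iso_pow hg 7)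
  have hy : Iso Q (g ^ 31) 7 := Iso.mk' (pp_three hF) (by omega) (by rw [← pow_mul, hg217]) (iso_pow hg 31)
  have hx1 : g ^ 7 ≠ 1 := hne 7 (by decide)
  have hy1 : g ^ 31 ≠ 1 := hne 31 (by decide)
  have hxy : g ^ 7 * g ^ 31 = g ^ 31 * g ^ 7 := by rw [← pow_add, ← pow_add]
  obtain ⟨hcx, -, -⟩ := hx.odd_case hQ hx1 (pp_five hF) (by decide) (by omega)
  have hiy := H938.Sax.Typ.inv_cm_of_comm hxy
  have h3 := hy.dvd (pp_three hF) hiy
  have h5 : 5 ∣ finrank F ↥(cm (g ^ 7) ⊓ cm (g ^ 31)) := by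
    have h := hx.dvd (pp_five hF) (W := cm (g ^ 7) ⊓ cm (g ^ 31))
      ((H951.inv_cm).inf (H938.Sax.Typ.inv_cm_of_comm hxy.symm))
    rwa [inf_eq_left.2 (inf_le_left : cm (g ^ 7) ⊓ cm (g ^ 31) ≤ cm (g ^ 7))] at h
  have hle : finrank F ↥(cm (g ^ 7) ⊓ cm (g ^ 31)) ≤ finrank F (cm (g ^ 7)) := Submodule.finrank_mono inf_le_left
  have h0 : cm (g ^ 7) ⊓ cm (g ^ 31) = ⊥ := Submodule.finrank_eq_zero.1 (by omega)
  have hfix : cm (g ^ 7) ≤ fx (g ^ 31) := by
    have h6 := H951.inf_fx_sup_inf_cm hy.ne0 hy.pow hiy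
    rw [h0, sup_bot_eq] at h6
    rw [← h6]
    exact inf_le_right
  have hfix' := H938.Sax.Typ.cm_le_fx hQ hx hy hfix
  have hadd := hx.finrank_add
  have hcy3 := hy.dvd_cm (pp_three hF)
  have hcy0 : finrank F (cm (g ^ 31)) ≠ 0 := fun h0 => cm_ne_bot hy1 (Submodule.finrank_eq_zero.1 h0)
  have hcy : finrank F (cm (g ^ 31)) ≤ finrank F (fx (g ^ 7)) := Submodule.finrank_mono hfix'
  -- the dimension of `[V, y]` is even
  have hev : finrank F (cm (g ^ 31)) ≠ 3 := by
    intro h7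
    have := Fact.mk hy.prime
    obtain ⟨A, hA, -⟩ := exists_inv_ts_of_odd hy.two_lt hy.ne0 (by rw [ord_eq (pp_three hF)]; decide) hQ hy.iso hy.pow
    omega
  have hcy6 : 6 ≤ finrank F (cm (g ^ 31)) := by omega
  refine ⟨by omega, fun hd' v hv => ?_⟩
  have heq : cm (g ^ 31) = fx (g ^ 7) := Submodule.eq_of_le_of_finrank_eq hfix' (by omega)
  have hv1 : v ∈ cm (g ^ 31) := by rw [heq]; exact H951.mem_fx.2 (H951.pow_fx hv 7)
  have hv2 : v ∈ fx (g ^ 31) := H951.mem_fx.2 (H951.pow_fx hv 31)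
  rw [← Submodule.mem_bot F, ← (H951.isCompl_fx_cm hy.ne0 hy.pow).inf_eq_bot]
  exact ⟨hv2, hv1⟩

end lin

theorem pow_dvd_iff_31 {n : ℕ} (h : ¬ 31 ^ 2 ∣ n) (P : ℕ) (hP : ∃ k, P = 31 ^ k) (hd : P ∣ n) :
    P = 1 ∨ P = 31 := by
  obtain ⟨k, rfl⟩ := hP
  have hk : k < 2 := by
    by_contra hcon
    push Not at hcon
    exact h ((pow_dvd_pow 31 hcon).trans hd)
  interval_cases k
  · left; norm_num
  · right; norm_num

theorem not_dvd_card {F : Type} [Field F] [Fintype F] (hF : Fintype.card F = 2) :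
    ¬ 31 ^ 2 ∣ Nat.card (Cfsg.POmega F (Cfsg.quadFormPlus 8 F)) := by
  have h := Cfsg.Agent.S0293.result hF 8 (by norm_num)
  intro h1
  have h2 : Nat.gcd 4 (2 ^ 8 - 1) = 1 := by decide
  rw [h2, one_mul] at h
  rw [h] at h1
  revert h1
  simp only [Finset.prod_range_succ, Finset.prod_range_zero]
  norm_num

theorem comm_of_31 {G : Type*} [Group G] {y z : G} (hy : orderOf y = 7) (hz : orderOf z = 31)
    (h : y * z * y⁻¹ ∈ Subgroup.zpowers z) : y * z = z * y := by
  have hfin : IsOfFinOrder z := by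
    rw [← orderOf_pos_iff, hz]; norm_num
  obtain ⟨j, hj⟩ := (hfin.mem_powers_iff_mem_zpowers.2 h)
  have hj' : y * z * y⁻¹ = z ^ j := hj.symm
  have hpow : ∀ n : ℕ, y ^ n * z * (y ^ n)⁻¹ = z ^ (j ^ n) := by
    intro n
    induction n with
    | zero => simp
    | succ n ih =>
      have h1 : y ^ (n + 1) * z * (y ^ (n + 1))⁻¹ = y ^ n * (y * z * y⁻¹) * (y ^ n)⁻¹ := by
        rw [pow_succ]; group
      rw [h1, hj', pow_succ, pow_mul, ← ih]
      exact conj_pow.symm
  have h7 := hpow 7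
  rw [← hy, pow_orderOf_eq_one, one_mul, inv_one, mul_one, hy] at h7
  have h8 : (z ^ (j ^ 7)) = z ^ 1 := by rw [← h7, pow_one]
  rw [pow_eq_pow_iff_modEq, hz] at h8
  have h9 : ((j : ZMod 31)) ^ 7 = 1 := by
    have := (ZMod.natCast_eq_natCast_iff _ _ _).2 h8
    push_cast at this
    exact this
  have h10 : ∀ a : ZMod 31, a ^ 7 = 1 → a = 1 := by decide
  have h11 := h10 _ h9
  have h12 : z ^ j = z ^ 1 := by
    rw [pow_eq_pow_iff_modEq, hz]
    exact (ZMod.natCast_eq_natCast_iff _ _ _).1 (by push_cast; exact h11)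
  rw [h12, pow_one] at hj'
  calc y * z = y * z * y⁻¹ * y := by group
    _ = z * y := by rw [hj']

theorem exists_elt_217 {F : Type} [Field F] [Fintype F] (hF : Fintype.card F = 2) :
    ∃ x : Cfsg.POmega F (Cfsg.quadFormPlus 8 F), orderOf x = 7 * 31 := by
  have hq : Nat.card F = 2 := by rw [Nat.card_eq_fintype_card, hF]
  have h1 : Elt F 3 1 7 := elt_tor_plus (by norm_num) (by rw [hq]; norm_num)
  have h2 : Elt F 5 1 31 := elt_tor_plus (by norm_num) (by rw [hq]; norm_num)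
  have h3 := h1.prod h2
  exact (Elt.two (by norm_num) (by decide) h3).plus (by norm_num)

theorem ld_o16 {F : Type} [Field F] [Fintype F] (hF : Fintype.card F = 2) :
    Cfsg.Agent.H997.PF.LD (Cfsg.POmega F (Cfsg.quadFormPlus 8 F)) 1 7 31 where
  hr := by norm_num
  hs := by norm_num
  hrs := by norm_num
  hrO := by norm_num
  hsO := by norm_num
  cyc P hP := by
    have := Fact.mk (show Nat.Prime 31 by norm_num)
    obtain ⟨k, hk⟩ := IsPGroup.iff_card.1 hP
    rcases pow_dvd_iff_31 (not_dvd_card hF) _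
      ⟨k, hk⟩ (Subgroup.card_subgroup_dvd_card P) with h | h
    · have : Subsingleton P := (Nat.card_eq_one_iff_unique.1 h).1
      exact isCyclic_of_subsingleton
    · exact isCyclic_of_prime_card h
  ex := exists_elt_217 hF
  comm _ _ hy hz h := comm_of_31 hy hz h

section pt

variable {ι : Type} [Fintype ι] [DecidableEq ι] {F : Type u} [Field F] [Fintype F] {Q : QuadraticForm F (ι → F)}

/-- the stabiliser of a nonsingular point in dimension `16` -/
theorem point_gap (hF : Fintype.card F = 2) (hQ : Nondeg Q) (hD : H390.Lift.Data Q)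
    (hd : Fintype.card ι = 16) {M : Subgroup (POmega F (⇑Q))} {v : ι → F} (hv : Q v ≠ 0)
    (hM : pre (⇑Q) M ≤ subspaceStabilizer (Submodule.span F {v})) (m : POmega F (⇑Q)) (hm : m ∈ M) :
    orderOf m ≠ 7 * 31 := by
  intro ho
  have hN : Odd (7 * 31) := by decide
  obtain ⟨g, h1, h2, h3⟩ := exists_pre hD hN hm ho
  have h4 := lin_217 hF hQ h3 h2 (by rw [finrank_V]; omega)
  have h5 : lin g v = v := fix_of_line h3 hN (by rw [← h2]; exact pow_orderOf_eq_one _) hv
    (inv_of_mem (hM h1) v (Submodule.mem_span_singleton_self v))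
  have h6 := h4.2 (by rw [finrank_V, hd]) v h5
  exact hv (by rw [h6]; exact QuadraticMap.map_zero Q)

end pt

theorem no217 {F : Type} [Field F] [Fintype F] (hF : Fintype.card F = 2)
    (K : Subgroup (Cfsg.POmega F (Cfsg.quadFormPlus 8 F))) {v : Fin 8 ⊕ Fin 8 → F}
    (hv : Cfsg.quadFormPlus 8 F v ≠ 0)
    (hK : pre (Cfsg.quadFormPlus 8 F) K ≤ subspaceStabilizer (Submodule.span F {v})) :
    ∀ x ∈ K, orderOf x ≠ 7 * 31 := by
  have h : ∀ K : Subgroup (POmega F (⇑(quadPlus 8 F))), ∀ v : Fin 8 ⊕ Fin 8 → F, quadPlus 8 F v ≠ 0 →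
      pre (⇑(quadPlus 8 F)) K ≤ subspaceStabilizer (Submodule.span F {v}) → ∀ x ∈ K, orderOf x ≠ 7 * 31 :=
    fun K v hv hK => point_gap hF (nondeg_iff.2 quadPlus_nondegenerate) (data_plus (by norm_num))
      (by rw [card_plus]) hv hK
  rw [coe_quadPlus] at h
  exact h K v hv hK

theorem sp_no217 {F : Type u} [Field F] [Fintype F] (hF : Fintype.card F = 2) {n : ℕ} (hn : n < 8)
    (A : Matrix.symplecticGroup (Fin n) F) : orderOf A ≠ 7 * 31 := by
  intro ho
  have hp2 := Fact.mk Nat.prime_two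
  have hch : CharP F 2 := charP_of_card_eq_prime hF
  obtain ⟨Q, hQ1, hQ2⟩ := Cfsg.Agent.S2585.result A
  have hQ : Nondeg Q := nondeg_of_symp hQ1
  have h1 : orderOf (Matrix.toLin' (A : Matrix (Fin n ⊕ Fin n) (Fin n ⊕ Fin n) F)) = 7 * 31 := by
    rw [← ho]
    have h2 : orderOf (A : Matrix (Fin n ⊕ Fin n) (Fin n ⊕ Fin n) F) = orderOf A := orderOf_submonoid A
    rw [← h2]
    exact orderOf_injective (Matrix.toLinAlgEquiv' (R := F) (n := Fin n ⊕ Fin n)).toRingEquiv.toMonoidHom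
      (Matrix.toLinAlgEquiv' (R := F) (n := Fin n ⊕ Fin n)).injective _
  have h3 := lin_217 hF hQ (g := Matrix.toLin' (A : Matrix (Fin n ⊕ Fin n) (Fin n ⊕ Fin n) F))
    (fun v => by rw [Matrix.toLin'_apply]; exact hQ2 v) h1 (by
      rw [Module.finrank_fintype_fun_eq_card, Fintype.card_sum, Fintype.card_fin]; omega)
  rw [Module.finrank_fintype_fun_eq_card, Fintype.card_sum, Fintype.card_fin] at h3
  omega

theorem sp14_no217 {F : Type} [Field F] [Fintype F] (hF : Fintype.card F = 2) :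
    ∀ x : Cfsg.PSp 7 F, orderOf x ≠ 7 * 31 := by
  intro m ho
  have hp2 := Fact.mk Nat.prime_two
  have hch : CharP F 2 := charP_of_card_eq_prime hF
  obtain ⟨A, hA⟩ := (Cfsg.Agent.H403.mem_range_PSp (F := F) (n := 7) (by omega) (7 * 31)).1 ⟨m, ho⟩
  exact sp_no217 hF (by omega) A hA

end Cfsg.Agent.H79.O16
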